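import Cfsg.Agent.R2.T2.Orb.Div
import Cfsg.Agent.R2.T1.Five.Twist

/-!
# S5929, `n = 6`, `p = 2`: the kernels of `T² - τ T + 1` over the field with four elements (helper26)
-/

set_option autoImplicit false

namespace Cfsg.Agent.R2.T1.N6T

open Module Polynomial
open Cfsg.Agent.R2.T1

universe u v

variable {F : Type u} [Field F]

theorem no_root [Finite F] (h4 : Nat.card F = 4) (h2 : (2 : F) = 0) {τ : F} (hτ : τ * τ + τ - 1 = 0) (r : F)
    (hr : r * r - τ * r + 1 = 0) : False := by
  have hr0 : r ≠ 0 := by
    rintro rfl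
    apply one_ne_zero (α := F)
    linear_combination hr
  have h3 : r ^ 3 = 1 := by
    have h := Cfsg.Agent.R2.T2.Orb.pow_card_sub hr0
    rw [h4] at h
    exact h
  have h5 : r ^ 5 = 1 := by
    linear_combination (r ^ 3 + τ * r ^ 2 + (τ ^ 2 - 1) * r + τ ^ 3 - 2 * τ) * hr +
      ((τ * τ - τ - 1) * r - τ + 1) * hτ
  have h6 : r * r = 1 := by
    have : r ^ 5 = r ^ 3 * (r * r) := by ring
    rw [h5, h3, one_mul] at this
    exact this.symm
  have h7 : τ * r = 0 := by linear_combination h6 - hr + h2
  rcases mul_eq_zero.1 h7 with h | h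
  · rw [h] at hτ
    apply one_ne_zero (α := F)
    linear_combination -hτ
  · exact hr0 h

theorem even_q [Finite F] (h4 : Nat.card F = 4) (h2 : (2 : F) = 0) {τ : F} (hτ : τ * τ + τ - 1 = 0) {M : Type v}
    [AddCommGroup M] [Module F M] [FiniteDimensional F M] (T : Module.End F M) :
    2 ∣ finrank F ↥(LinearMap.ker (Five.qd τ T)) := by
  have hp : (X ^ 2 - C τ * X + 1 : F[X]).natDegree = 2 := by compute_degree!
  refine Cfsg.Agent.R2.T2.Orb.dvd_sub (p := X ^ 2 - C τ * X + 1) ?_ (T := T) ?_ ?_
  · intro q hq1 hq2 hq3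
    have h5 : q.natDegree ≤ 2 := by
      rw [← hp]
      refine Polynomial.natDegree_le_of_dvd hq3 ?_
      intro h0
      rw [h0, natDegree_zero] at hp
      omega
    have h6 := hq2.natDegree_pos
    have h7 : q.natDegree ≠ 1 := by
      intro h
      have h8 : q = X + C (q.coeff 0) := by
        have := Polynomial.eq_X_add_C_of_natDegree_le_one (p := q) (by omega)
        have h9 : q.coeff 1 = 1 := by
          have := hq1.leadingCoeff
          rwa [leadingCoeff, h] at this
        rw [h9, C_1, one_mul] at this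
        exact this
      obtain ⟨s, hs⟩ := hq3
      have h9 : eval (-(q.coeff 0)) (X ^ 2 - C τ * X + 1 : F[X]) = 0 := by
        rw [hs, eval_mul]
        have : eval (-(q.coeff 0)) q = 0 := by
          conv_lhs => rw [h8]
          rw [eval_add, eval_X, eval_C]
          simp
        rw [this, zero_mul]
      simp only [eval_add, eval_sub, eval_mul, eval_pow, eval_X, eval_C, eval_one] at h9
      exact no_root h4 h2 hτ (-(q.coeff 0)) (by linear_combination h9)
    have h8 : q.natDegree = 2 := by omega
    rw [h8]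
  · intro w hw
    rw [Five.mem_ker_qd] at hw ⊢
    rw [hw, map_sub, map_smul, hw]
  · intro w hw
    rw [Five.mem_ker_qd] at hw
    rw [map_add, map_sub, map_mul, map_pow, aeval_X, aeval_C, map_one, LinearMap.add_apply, LinearMap.sub_apply,
      pow_two, Module.End.mul_apply, Module.End.mul_apply, Module.algebraMap_end_apply, Module.End.one_apply, hw]
    abel

end Cfsg.Agent.R2.T1.N6T
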