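import Cfsg.Agent.R2.T1.N6T.Last
import Cfsg.Agent.R2.T1.N6T.Even
import Cfsg.Agent.R2.T1.N6D.Par
import Cfsg.Agent.R2.T1.N6D.T1
import Cfsg.Agent.R2.T1.N6D.Pos
import Cfsg.Agent.R2.T1.N6D.NoU

/-!
# S5929, `n = 6`, `p = 2` (helper26)

* `six2` : no maximal subgroup with generalized Fitting subgroup `A₆` in characteristic 2.
-/

set_option autoImplicit false

namespace Cfsg.Agent.R2.T1.N6T

open Cfsg Cfsg.Lie Module Equiv Equiv.Perm
open Cfsg.Agent.H943.E7V.Block (D1 rho)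
open Cfsg.Agent.H952.F4 (ev MaxAlt)
open Cfsg.Agent.R2.T1
open Cfsg.Agent.R2.T1.N6D (Ineq Low z5)
open Cfsg.Agent.R2.T1.N6D.I2 (pa pa')

universe u

theorem ord_pa : orderOf pa = 3 := orderOf_eq_prime (by decide +kernel) (by decide +kernel)

theorem ord_pb : orderOf (pa * pa') = 3 := orderOf_eq_prime (by decide +kernel) (by decide +kernel)

theorem ord_z5 : orderOf z5 = 5 := orderOf_eq_prime (by decide +kernel) (by decide +kernel)

theorem okAll {F : Type u} [Field F] [Finite F] (h2 : (2 : F) = 0) (h4 : Nat.card F = 4) :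
    OkAll F pa pa' (pa * pa') := by
  intro τ hτ M _ _ _ ρ hinv hdual
  have hτ' : (-1 - τ) * (-1 - τ) + (-1 - τ) - 1 = 0 := by linear_combination hτ
  have e1 := N6D.I2.dimE ρ h2
  refine ⟨N6D.I2.sum5 ρ h2 hτ, N6D.pos h2 ρ ord_pa ord_z5, N6D.pos h2 ρ ord_pb ord_z5, N6D.I2.even_A ρ h2, N6D.I2.even_B ρ h2,
    ?_, N6D.I2.ineq6 h2 M ρ hinv hdual, N6D.two_mul_le h2 hτ ρ, N6D.two_mul_le h2 hτ' ρ, even_q h4 h2 hτ _,
    even_q h4 h2 hτ' _⟩
  rw [← e1]
  rfl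

theorem six2 {F : Type u} [Field F] [Finite F] {H : Subgroup ↥(chevE7.group F)}
    {φ : ↥(alternatingGroup (Fin 6)) →* ↥(chevE7.group F)} {ψ : ↥(alternatingGroup (Fin 6)) →* Gh F}
    (hM : MaxAlt H 6 φ) (hψ : Lift φ ψ) (h2 : (2 : F) = 0) : False := by
  refine last hM hψ h2 (a := pa) (a' := pa') (b := pa * pa') ?_ ?_ ?_ ?_ (N6D.I2.ineq6 h2) (N6D.I2.low6 h2)
    (okAll h2)
  · rw [← ord_pa, pow_orderOf_eq_one]
  · rw [← ord_pb, pow_orderOf_eq_one]
  · intro h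
    have := ord_pa
    rw [h, orderOf_one] at this
    omega
  · intro h
    have := ord_pb
    rw [h, orderOf_one] at this
    omega

end Cfsg.Agent.R2.T1.N6T
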